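import Groth.Agent.ProjMorph.Sections
import Groth.Agent.Props.QRank
import Groth.Agent.ProjTwist.Tensor
import Groth.Agent.ProjTwist.Invertible
import Groth.Agent.Props.QStalk
import Mathlib.AlgebraicGeometry.Modules.Tilde
import Mathlib.LinearAlgebra.SymmetricAlgebra.Basis

/-!
Points of projective space over an affine base and the module of sections of `s^* O(1)`.
-/

set_option autoImplicit false

universe u

open CategoryTheory CategoryTheory.Limits AlgebraicGeometry TopologicalSpace Opposite

noncomputable section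

namespace Groth.Agent.ProjPointLib

open Groth.Agent.QCoh Groth.Agent.Props.GenLocus Groth.Agent.ProjMorph Groth.Agent.Props.GenPull

variable {R : Type u} [CommRing R] {n : ℕ}

/-- constants as functions on `Spec R` -/
abbrev sig (R : Type u) [CommRing R] : R →+* Γ(Spec (CommRingCat.of R), ⊤) :=
  (Scheme.ΓSpecIso (CommRingCat.of R)).inv.hom

theorem sig_bijective : Function.Bijective (sig R) :=
  ConcreteCategory.bijective_of_isIso (Scheme.ΓSpecIso (CommRingCat.of R)).inv

/-- global sections as a module over `R` -/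
@[reducible] def modR (L : (Spec (CommRingCat.of R)).Modules) : Module R (ProjUP.Γm L) :=
  Module.compHom _ (sig R)

attribute [local instance] modR

theorem smul_def (L : (Spec (CommRingCat.of R)).Modules) (r : R) (t : ProjUP.Γm L) :
    r • t = sig R r • t := rfl

/-- the pulled back module -/
abbrev LL (s : Spec (CommRingCat.of R) ⟶ CohB1.ProjSpace n R) : (Spec (CommRingCat.of R)).Modules :=
  (Scheme.Modules.pullback s).obj (Twist.twistProjSpace n R 1)

/-- the pulled back coordinates -/
abbrev co (s : Spec (CommRingCat.of R) ⟶ CohB1.ProjSpace n R) (i : Fin (n + 1)) : ProjUP.Γm (LL s) :=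
  ProjUP.pullSec s (Twist.twistProjSpace n R 1) (ProjUP.coord n R i)

/-- the linear map given by the coordinates -/
def coLin (s : Spec (CommRingCat.of R) ⟶ CohB1.ProjSpace n R) :
    (Fin (n + 1) → R) →ₗ[R] ProjUP.Γm (LL s) :=
  Fintype.linearCombination R (co s)

theorem secKernel_eq (s : Spec (CommRingCat.of R) ⟶ CohB1.ProjSpace n R) :
    ProjUP.secKernel n R s = LinearMap.ker (coLin s) := rfl

theorem hgenX : Algebra.adjoin R
    (Set.range (MvPolynomial.X : Fin (n + 1) → MvPolynomial (Fin (n + 1)) R)) = ⊤ :=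
  MvPolynomial.adjoin_range_X

theorem isInvertible_LL (s : Spec (CommRingCat.of R) ⟶ CohB1.ProjSpace n R) : PicF.IsInvertible (LL s) :=
    Groth.Agent.AmpleLib.isInvertible_of_exists_isGen fun x => by
      obtain ⟨i, hi⟩ := Opens.mem_iSup.mp
        ((iSup_basicOpen_gen (𝒜 := CohB1.polyGrading n R) MvPolynomial.X
          (fun i => MvPolynomial.isHomogeneous_X R i) hgenX).ge (trivial : s.base x ∈ (⊤ : (CohB1.ProjSpace n R).Opens)))
      exact ⟨s ⁻¹ᵁ Proj.basicOpen (CohB1.polyGrading n R) (MvPolynomial.X i), _, hi, isGen_pb s (isGen_frame (MvPolynomial.isHomogeneous_X R i))⟩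

/-- locally one of the coordinates generates -/
theorem exists_chart (s : Spec (CommRingCat.of R) ⟶ CohB1.ProjSpace n R) (x : Spec (CommRingCat.of R)) :
    ∃ (i : Fin (n + 1)) (W : (Spec (CommRingCat.of R)).Opens), x ∈ W ∧
      IsGen (LL s) W (res (LL s) le_top (co s i)) := by
  obtain ⟨i, hi⟩ := Opens.mem_iSup.mp
    ((iSup_basicOpen_gen (𝒜 := CohB1.polyGrading n R) MvPolynomial.X
      (fun i => MvPolynomial.isHomogeneous_X R i) hgenX).ge (trivial : s.base x ∈ (⊤ : (CohB1.ProjSpace n R).Opens)))
  refine ⟨i, s ⁻¹ᵁ Proj.basicOpen (CohB1.polyGrading n R) (MvPolynomial.X i), hi, ?_⟩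
  have h := isGen_pb s (isGen_frame (𝒜 := CohB1.polyGrading n R) (MvPolynomial.isHomogeneous_X R i))
  have e := res_pullSec_self (𝒜 := CohB1.polyGrading n R) s (MvPolynomial.isHomogeneous_X R i)
  exact Eq.subst (motive := fun z => IsGen (LL s) _ z) e.symm h

/-- at every prime one of the coordinates is a basis -/
theorem exists_local_basis (s : Spec (CommRingCat.of R) ⟶ CohB1.ProjSpace n R) (p : Ideal R) [p.IsPrime] :
    ∃ i : Fin (n + 1), (∀ t : ProjUP.Γm (LL s), ∃ u ∉ p, ∃ b : R, u • t = b • co s i) ∧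
      ∀ a : R, a • co s i = 0 → ∃ u ∉ p, u * a = 0 := by
  let X := Spec (CommRingCat.of R)
  have hA : IsAffineOpen (⊤ : X.Opens) := isAffineOpen_top X
  have := ProjTwist.isQCoh_of_isInvertible (isInvertible_LL s)
  let x : X := ⟨p, inferInstance⟩
  obtain ⟨i, W, hxW, hW⟩ := exists_chart s x
  obtain ⟨G, hGW, hxG⟩ := hA.exists_basicOpen_le (V := W) ⟨x, hxW⟩ (trivial : x ∈ (⊤ : X.Opens))
  obtain ⟨g, rfl⟩ := sig_bijective.2 G
  have hgen := hW.restrict hGW
  rw [res_res] at hgen
  have hgp : g ∉ p := by
    intro h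
    have : x ∈ PrimeSpectrum.basicOpen g := by
      have e := AlgebraicGeometry.basicOpen_eq_of_affine (R := CommRingCat.of R) g
      exact e.le hxG
    exact this h
  have hgpow : ∀ k : ℕ, g ^ k ∉ p := fun k h => hgp (Ideal.IsPrime.mem_of_pow_mem inferInstance k h)
  have hloc := QCoh.isLocalizingAt (LL s) hA (sig R g)
  refine ⟨i, fun t => ?_, fun a ha => ?_⟩
  · obtain ⟨a, ha, -⟩ := hgen.exists_eq le_rfl (res (LL s) (X.basicOpen_le (sig R g)) t)
    rw [res_self] at ha
    have hO : IsLocalization.Away (sig R g) Γ(X, X.basicOpen (sig R g)) := hA.isLocalization_basicOpen _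
    obtain ⟨k, b', hb⟩ := IsLocalization.Away.surj (sig R g) a
    obtain ⟨b, rfl⟩ := sig_bijective.2 b'
    have h0 : res (LL s) (X.basicOpen_le (sig R g)) (sig R g ^ k • t - sig R b • co s i) = 0 := by
      rw [map_sub, res_smul, res_smul, ha, smul_smul, sub_eq_zero]
      congr 1
      rw [map_pow, mul_comm]
      exact hb
    obtain ⟨m, hm⟩ := hloc.eq_zero _ h0
    refine ⟨g ^ (m + k), hgpow _, g ^ m * b, ?_⟩
    rw [smul_sub, smul_smul, smul_smul, sub_eq_zero] at hm
    rw [smul_def, smul_def, map_pow, map_mul, map_pow, pow_add]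
    exact hm
  · have h1 : rres (X.basicOpen_le (sig R g)) (sig R a) = 0 := by
      refine hgen.injective le_rfl ?_
      rw [res_self, zero_smul, ← res_smul]
      exact (congrArg _ ha).trans (map_zero _)
    have hO : IsLocalization.Away (sig R g) Γ(X, X.basicOpen (sig R g)) := hA.isLocalization_basicOpen _
    obtain ⟨⟨_, m, rfl⟩, hm⟩ := (IsLocalization.map_eq_zero_iff (Submonoid.powers (sig R g))
      Γ(X, X.basicOpen (sig R g)) (sig R a)).mp h1
    exact ⟨g ^ m, hgpow m, sig_bijective.1 (by rw [map_mul, map_pow, map_zero]; exact hm)⟩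

/-- the coordinates generate all global sections -/
theorem coLin_surjective (s : Spec (CommRingCat.of R) ⟶ CohB1.ProjSpace n R) : Function.Surjective (coLin s) := by
  intro t
  let J : Ideal R := Submodule.comap ((LinearMap.id (R := R) (M := R)).smulRight t) (LinearMap.range (coLin s))
  have hJ : J = ⊤ := by
    by_contra hne
    obtain ⟨p, hp, hJp⟩ := Ideal.exists_le_maximal J hne
    obtain ⟨i, hi, -⟩ := exists_local_basis s p
    obtain ⟨u, hu, b, hb⟩ := hi t
    refine hu (hJp ?_)
    show u • t ∈ LinearMap.range (coLin s)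
    rw [hb]
    refine Submodule.smul_mem _ _ ⟨Pi.single i 1, ?_⟩
    rw [coLin, Fintype.linearCombination_apply_single, one_smul]
  have h1 : (1 : R) • t ∈ LinearMap.range (coLin s) := (Ideal.eq_top_iff_one J).mp hJ
  rwa [one_smul] at h1

theorem smul_moduleSpecΓ (L : (Spec (CommRingCat.of R)).Modules) (r : R)
    (x : (moduleSpecΓFunctor (R := CommRingCat.of R)).obj L) :
    (show ProjUP.Γm L from r • x) = r • (show ProjUP.Γm L from x) := by
  rfl

/-- quasi-coherent modules on `Spec R` with isomorphic sections are isomorphic, compatibly -/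
theorem exists_iso_of_linearEquiv (L₁ L₂ : (Spec (CommRingCat.of R)).Modules) [L₁.IsQuasicoherent]
    [L₂.IsQuasicoherent] (e : ProjUP.Γm L₁ ≃ₗ[R] ProjUP.Γm L₂) :
    ∃ τ : L₁ ≅ L₂, ∀ x, τ.hom.app ⊤ x = e x := by
  let e' : (moduleSpecΓFunctor (R := CommRingCat.of R)).obj L₁ ≅ (moduleSpecΓFunctor (R := CommRingCat.of R)).obj L₂ :=
    LinearEquiv.toModuleIso (R := (CommRingCat.of R : Type u))
      (g₁ := ((moduleSpecΓFunctor (R := CommRingCat.of R)).obj L₁).isAddCommGroup)
      (m₁ := ((moduleSpecΓFunctor (R := CommRingCat.of R)).obj L₁).isModule)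
      (g₂ := ((moduleSpecΓFunctor (R := CommRingCat.of R)).obj L₂).isAddCommGroup)
      (m₂ := ((moduleSpecΓFunctor (R := CommRingCat.of R)).obj L₂).isModule)
      { toFun := fun x => e x
        invFun := fun y => e.symm y
        left_inv := fun x => e.symm_apply_apply x
        right_inv := fun y => e.apply_symm_apply y
        map_add' := fun x y => e.map_add x y
        map_smul' := fun r x => by
          refine Eq.trans (congrArg e (smul_moduleSpecΓ L₁ r x)) ?_
          exact (e.map_smul r x).trans (smul_moduleSpecΓ L₂ r (e x)).symm }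
  let A := tilde.adjunction (R := CommRingCat.of R)
  have h₁ : IsIso (A.counit.app L₁) := Scheme.Modules.isIso_fromTildeΓ_of_isQuasicoherent L₁
  have h₂ : IsIso (A.counit.app L₂) := Scheme.Modules.isIso_fromTildeΓ_of_isQuasicoherent L₂
  let τ : L₁ ≅ L₂ := (asIso (A.counit.app L₁)).symm ≪≫ (tilde.functor _).mapIso e' ≪≫ asIso (A.counit.app L₂)
  refine ⟨τ, fun x => ?_⟩
  have h : (moduleSpecΓFunctor (R := CommRingCat.of R)).map τ.hom = e'.hom := by
    have t₁ := A.right_triangle_components L₁
    have t₂ := A.right_triangle_components L₂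
    have n₁ := A.unit.naturality e'.hom
    have i₁ : (moduleSpecΓFunctor (R := CommRingCat.of R)).map (inv (A.counit.app L₁)) =
        A.unit.app ((moduleSpecΓFunctor (R := CommRingCat.of R)).obj L₁) := by
      rw [Functor.map_inv, IsIso.inv_eq_of_inv_hom_id]
      exact t₁
    simp only [τ, Iso.trans_hom, Iso.symm_hom, asIso_inv, Functor.mapIso_hom, asIso_hom,
      Functor.map_comp, i₁]
    simp only [Functor.id_map, Functor.comp_map] at n₁
    exact ((Category.assoc _ _ _).symm.trans (congrArg (· ≫ _) n₁.symm)).trans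
      ((Category.assoc _ _ _).trans ((congrArg (e'.hom ≫ ·) t₂).trans (Category.comp_id _)))
  exact congrArg (fun q => q.hom x) h

end Groth.Agent.ProjPointLib
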