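import Groth.Agent.ProjPointLib.Basic
import Groth.Agent.S3591
import Mathlib.RingTheory.LocalRing.Module
import Mathlib.Algebra.Module.Projective

/-!
Sections of `P^n_R` and rank one projective quotients of `R^{n+1}`.
-/

set_option autoImplicit false

universe u

open CategoryTheory CategoryTheory.Limits AlgebraicGeometry TopologicalSpace Opposite

noncomputable section

namespace Groth.Agent.ProjPointLib

open Groth.Agent.QCoh Groth.Agent.Props.GenLocus Groth.Agent.ProjMorph Groth.Agent.Props.GenPull

variable {R : Type u} [CommRing R] {n : ℕ}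

attribute [local instance] modR

theorem section_ext (s₁ s₂ : Spec (CommRingCat.of R) ⟶ CohB1.ProjSpace n R)
    (h₁ : s₁ ≫ CohB1.ProjSpace.toSpec n R = 𝟙 _) (h₂ : s₂ ≫ CohB1.ProjSpace.toSpec n R = 𝟙 _)
    (h : LinearMap.ker (coLin s₁) = LinearMap.ker (coLin s₂)) : s₁ = s₂ := by
  have := ProjTwist.isQCoh_of_isInvertible (isInvertible_LL s₁)
  have := ProjTwist.isQCoh_of_isInvertible (isInvertible_LL s₂)
  let e₁ := (coLin s₁).quotKerEquivOfSurjective (coLin_surjective s₁)
  let e₂ := (coLin s₂).quotKerEquivOfSurjective (coLin_surjective s₂)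
  let e : ProjUP.Γm (LL s₁) ≃ₗ[R] ProjUP.Γm (LL s₂) :=
    e₁.symm.trans ((Submodule.quotEquivOfEq _ _ h).trans e₂)
  have he : ∀ c, e (coLin s₁ c) = coLin s₂ c := fun c => by
    have hc : e₁.symm (coLin s₁ c) = Submodule.Quotient.mk c := by
      rw [LinearEquiv.symm_apply_eq]; rfl
    show e₂ (Submodule.quotEquivOfEq _ _ h (e₁.symm (coLin s₁ c))) = _
    rw [hc]
    rfl
  obtain ⟨τ, hτ⟩ := exists_iso_of_linearEquiv (LL s₁) (LL s₂) e
  refine to_proj_ext (𝒜 := CohB1.polyGrading n R) MvPolynomial.X
    (fun i => MvPolynomial.isHomogeneous_X R i) hgenX (h₁.trans h₂.symm) τ fun i => ?_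
  have hi := he (Pi.single i 1)
  rw [coLin, coLin, Fintype.linearCombination_apply_single, Fintype.linearCombination_apply_single,
    one_smul, one_smul] at hi
  exact (hτ _).trans hi

theorem finrank_localized_eq_one {Q : Type u} [AddCommGroup Q] [Module R Q] (p : Ideal R) [p.IsPrime] (m : Q)
    (h₁ : ∀ t : Q, ∃ u ∉ p, ∃ b : R, u • t = b • m) (h₂ : ∀ a : R, a • m = 0 → ∃ u ∉ p, u * a = 0) :
    Module.finrank (Localization.AtPrime p) (LocalizedModule p.primeCompl Q) = 1 := by
  let L := LinearMap.toSpanSingleton (Localization.AtPrime p) (LocalizedModule p.primeCompl Q)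
    (LocalizedModule.mk m 1)
  have hL : Function.Bijective L := by
    constructor
    · refine (injective_iff_map_eq_zero _).mpr fun c hc => ?_
      induction c using Localization.induction_on with
      | H x =>
        obtain ⟨a, s⟩ := x
        simp only [L, LinearMap.toSpanSingleton_apply, LocalizedModule.mk_smul_mk] at hc
        rw [← LocalizedModule.zero_mk 1, LocalizedModule.mk_eq] at hc
        obtain ⟨⟨v, hv⟩, hc⟩ := hc
        simp only [smul_zero, one_smul, Submonoid.smul_def, smul_smul] at hc
        obtain ⟨u, hu, hua⟩ := h₂ _ hc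
        rw [← Localization.mk_zero 1, Localization.mk_eq_mk_iff, Localization.r_iff_exists]
        exact ⟨⟨u * v, p.primeCompl.mul_mem hu hv⟩, by simp [mul_assoc, hua]⟩
    · intro y
      induction y using LocalizedModule.induction_on with
      | h t s =>
        obtain ⟨u, hu, b, hb⟩ := h₁ t
        refine ⟨Localization.mk b (⟨u, hu⟩ * s), ?_⟩
        simp only [L, LinearMap.toSpanSingleton_apply, LocalizedModule.mk_smul_mk, mul_one]
        rw [LocalizedModule.mk_eq]
        refine ⟨1, ?_⟩
        simp only [one_smul, Submonoid.smul_def, Submonoid.coe_mul, smul_smul]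
        rw [mul_comm u, ← smul_smul, ← smul_smul, hb]
  rw [← (LinearEquiv.ofBijective L hL).finrank_eq, Module.finrank_self]

theorem projective_and_finrank (s : Spec (CommRingCat.of R) ⟶ CohB1.ProjSpace n R) :
    Module.Projective R ((Fin (n + 1) → R) ⧸ LinearMap.ker (coLin s)) ∧
      ∀ p : PrimeSpectrum R, Module.finrank (Localization.AtPrime p.asIdeal)
        (LocalizedModule p.asIdeal.primeCompl ((Fin (n + 1) → R) ⧸ LinearMap.ker (coLin s))) = 1 := by
  let X := Spec (CommRingCat.of R)
  let e₁ := (coLin s).quotKerEquivOfSurjective (coLin_surjective s)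
  constructor
  · have := ProjTwist.isQCoh_of_isInvertible (isInvertible_LL s)
    have hlf : FlatMod.IsFinLocFree (LL s) := fun x =>
      let ⟨U, hx, hU⟩ := ProjTwist.isFinLocFreeOfRank_one (isInvertible_LL s) x
      ⟨U, 1, hx, hU⟩
    have hP : Module.Projective Γ(X, ⊤) Γ(LL s, ⊤) :=
      Props.QProj.projective_sections (LL s) hlf (isAffineOpen_top X)
    let π : (Fin (n + 1) → Γ(X, ⊤)) →ₗ[Γ(X, ⊤)] Γ(LL s, ⊤) := Fintype.linearCombination Γ(X, ⊤) (co s)
    have hπ : Function.Surjective π := fun t => by
      obtain ⟨c, rfl⟩ := coLin_surjective s t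
      exact ⟨fun i => sig R (c i), rfl⟩
    obtain ⟨sA, hsA⟩ := Module.projective_lifting_property π LinearMap.id hπ
    let σe : R ≃+* Γ(X, ⊤) := RingEquiv.ofBijective (sig R) sig_bijective
    let sR : ProjUP.Γm (LL s) →ₗ[R] (Fin (n + 1) → R) :=
      { toFun := fun t i => σe.symm (sA t i)
        map_add' := fun a b => funext fun i => by
          show σe.symm (sA (a + b) i) = σe.symm (sA a i) + σe.symm (sA b i)
          rw [← map_add]
          exact congrArg (fun z => σe.symm (z i)) (sA.map_add a b)
        map_smul' := fun r t => funext fun i => by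
          show σe.symm (sA (sig R r • t) i) = r * σe.symm (sA t i)
          refine (congrArg (fun z => σe.symm (z i)) (sA.map_smul (sig R r) t)).trans ?_
          refine (map_mul σe.symm (sig R r) (sA t i)).trans ?_
          rw [show sig R r = σe r from rfl, σe.symm_apply_apply] }
    have hsR : (coLin s).comp sR = LinearMap.id := LinearMap.ext fun t => by
      refine Eq.trans ?_ (congrArg (fun q => q t) hsA)
      show coLin s (fun i => σe.symm (sA t i)) = π (sA t)
      rw [coLin, Fintype.linearCombination_apply, Fintype.linearCombination_apply]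
      exact Finset.sum_congr rfl fun i _ => congrArg (· • co s i) (σe.apply_symm_apply _)
    exact @Module.Projective.of_equiv' R _ _ _ _ _ _ _ (Module.Projective.of_split sR (coLin s) hsR) e₁.symm
  · intro p
    obtain ⟨i, hi₁, hi₂⟩ := exists_local_basis s p.asIdeal
    refine finrank_localized_eq_one p.asIdeal (e₁.symm (co s i)) (fun t => ?_) fun a ha => hi₂ a ?_
    · obtain ⟨u, hu, b, hb⟩ := hi₁ (e₁ t)
      exact ⟨u, hu, b, e₁.injective (by rw [map_smul, map_smul, e₁.apply_symm_apply]; exact hb)⟩
    · have := congrArg e₁ ha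
      rwa [map_smul, e₁.apply_symm_apply, map_zero] at this

/-- a rank one projective quotient of a finite free module is locally free on one generator -/
theorem exists_generator {Q : Type u} [AddCommGroup Q] [Module R Q] [Module.Projective R Q]
    (π : (Fin (n + 1) → R) →ₗ[R] Q) (hπ : Function.Surjective π) (p : Ideal R) [p.IsPrime]
    (hr : Module.finrank (Localization.AtPrime p) (LocalizedModule p.primeCompl Q) = 1) :
    ∃ g ∉ p, ∃ m : Q, (∀ t, ∃ a : R, g • t = a • m) ∧ ∀ a : R, a • m = 0 → g * a = 0 := by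
  classical
  have : Module.Finite R Q := Module.Finite.of_surjective π hπ
  have : Module.FinitePresentation R Q := Module.finitePresentation_of_projective R Q
  have hfree : Module.Free (Localization.AtPrime p) (LocalizedModule p.primeCompl Q) :=
    Module.free_of_flat_of_isLocalRing
  obtain ⟨w, hw₀, hw⟩ := finrank_eq_one_iff'.mp hr
  induction w using LocalizedModule.induction_on with
  | h m s₀ =>
    have hgen : ∀ t : Q, ∃ u ∉ p, ∃ b : R, u • t = b • m := fun t => by
      obtain ⟨c, hc⟩ := hw (LocalizedModule.mk t 1)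
      induction c using Localization.induction_on with
      | H x =>
        obtain ⟨a, s⟩ := x
        rw [LocalizedModule.mk_smul_mk, LocalizedModule.mk_eq] at hc
        obtain ⟨v, hv⟩ := hc
        simp only [one_smul, Submonoid.smul_def, Submonoid.coe_mul, smul_smul] at hv
        exact ⟨(v : R) * ((s : R) * (s₀ : R)), p.primeCompl.mul_mem v.2 (p.primeCompl.mul_mem s.2 s₀.2),
          (v : R) * a, hv.symm⟩
    choose u hu b hb using fun i => hgen (π (Pi.single i 1))
    let g₀ : R := ∏ i, u i
    have hg₀ : g₀ ∉ p := fun h => by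
      obtain ⟨i, -, hi⟩ := (Ideal.IsPrime.prod_mem_iff).mp h
      exact hu i hi
    have hspan : ∀ t, ∃ a : R, g₀ • t = a • m := fun t => by
      obtain ⟨c, rfl⟩ := hπ t
      refine ⟨∑ i, c i * ((∏ j ∈ Finset.univ.erase i, u j) * b i), ?_⟩
      rw [Finset.sum_smul]
      conv_lhs => rw [pi_eq_sum_univ' c, map_sum, Finset.smul_sum]
      refine Finset.sum_congr rfl fun i _ => ?_
      rw [map_smul, ← smul_smul, ← smul_smul, ← hb i, smul_smul, smul_smul, smul_smul]
      congr 1
      simp only [g₀]
      rw [← Finset.mul_prod_erase Finset.univ u (Finset.mem_univ i)]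
      ring
    obtain ⟨σ, hσ⟩ := Module.projective_lifting_property π LinearMap.id hπ
    have hex : ∃ i, σ m i ∉ p := by
      by_contra h
      push_neg at h
      have hm : π (σ m) = m := congrArg (fun q => q m) hσ
      choose v hv w hw' using fun i => hgen (π (Pi.single i 1))
      -- every coefficient lies in `p`, so `m` vanishes at `p`
      have hP : (∏ i, v i) • m = (∑ i, σ m i * ((∏ j ∈ Finset.univ.erase i, v j) * w i)) • m := by
        rw [Finset.sum_smul]
        conv_lhs => rw [← hm, pi_eq_sum_univ' (σ m), map_sum, Finset.smul_sum]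
        refine Finset.sum_congr rfl fun i _ => ?_
        rw [map_smul, ← smul_smul, ← smul_smul, ← hw' i, smul_smul, smul_smul, smul_smul]
        congr 1
        rw [← Finset.mul_prod_erase Finset.univ v (Finset.mem_univ i)]
        ring
      refine hw₀ ?_
      rw [← LocalizedModule.zero_mk 1, LocalizedModule.mk_eq]
      refine ⟨⟨(∏ i, v i) - ∑ i, σ m i * ((∏ j ∈ Finset.univ.erase i, v j) * w i), fun hmem => ?_⟩, ?_⟩
      · have h1 : (∏ i, v i) ∈ p := by
          have := p.add_mem hmem (p.sum_mem (t := Finset.univ) fun i _ => p.mul_mem_right _ (h i) :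
            (∑ i, σ m i * ((∏ j ∈ Finset.univ.erase i, v j) * w i)) ∈ p)
          rwa [sub_add_cancel] at this
        obtain ⟨i, -, hi⟩ := (Ideal.IsPrime.prod_mem_iff).mp h1
        exact hv i hi
      · simp only [one_smul, smul_zero, Submonoid.smul_def, sub_smul, hP, sub_self]
    obtain ⟨i, hi⟩ := hex
    refine ⟨g₀ * σ m i, p.primeCompl.mul_mem hg₀ hi, m, fun t => ?_, fun a ha => ?_⟩
    · obtain ⟨a, ha⟩ := hspan t
      exact ⟨σ m i * a, by rw [mul_comm, ← smul_smul, ha, smul_smul]⟩
    · have : a * σ m i = 0 := by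
        have := congrArg (fun q => σ q i) ha
        simpa using this
      rw [mul_assoc, mul_comm (σ m i), this, mul_zero]

theorem exists_section (F : Submodule R (Fin (n + 1) → R))
    (hP : Module.Projective R ((Fin (n + 1) → R) ⧸ F))
    (hr : ∀ p : PrimeSpectrum R, Module.finrank (Localization.AtPrime p.asIdeal)
        (LocalizedModule p.asIdeal.primeCompl ((Fin (n + 1) → R) ⧸ F)) = 1) :
    ∃ s : Spec (CommRingCat.of R) ⟶ CohB1.ProjSpace n R,
      s ≫ CohB1.ProjSpace.toSpec n R = 𝟙 _ ∧ LinearMap.ker (coLin s) = F := by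
  classical
  let X := Spec (CommRingCat.of R)
  let M : ModuleCat.{u} (CommRingCat.of R) := ModuleCat.of R ((Fin (n + 1) → R) ⧸ F)
  let L : X.Modules := tilde M
  have : L.IsQuasicoherent := inferInstanceAs ((tilde M).IsQuasicoherent)
  let θ : ((Fin (n + 1) → R) ⧸ F) ≃ₗ[R] ProjUP.Γm L :=
    { toFun := fun q => (tilde.isoTop M).hom q
      invFun := fun y => (tilde.isoTop M).inv y
      left_inv := fun q => (tilde.isoTop M).hom_inv_id_apply q
      right_inv := fun y => (tilde.isoTop M).inv_hom_id_apply y
      map_add' := fun a b => map_add _ a b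
      map_smul' := fun r q => map_smul (tilde.isoTop M).hom.hom r q }
  have hA : IsAffineOpen (⊤ : X.Opens) := isAffineOpen_top X
  have hloc : ∀ x : X, ∃ (W : X.Opens) (e : Γ(L, W)), x ∈ W ∧ IsGen L W e := by
    intro x
    have : x.asIdeal.IsPrime := x.isPrime
    obtain ⟨g, hg, m, hm₁, hm₂⟩ := exists_generator (F.mkQ) F.mkQ_surjective x.asIdeal (hr x)
    refine ⟨X.basicOpen (sig R g), res L le_top (θ m), ?_, ?_⟩
    · rw [show X.basicOpen (sig R g) = PrimeSpectrum.basicOpen g from
        AlgebraicGeometry.basicOpen_eq_of_affine (R := CommRingCat.of R) g]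
      exact hg
    rw [isGen_iff_isFrame]
    refine LFFrame.isFrame_of_stalkComb_bijective fun y hy => ?_
    letI := Props.QStalk.moduleSections L (U := ⊤) (x := y) trivial
    letI := X.presheaf.algebra_section_stalk (U := ⊤) ⟨y, trivial⟩
    have : IsScalarTower Γ(X, ⊤) (X.presheaf.stalk y) (L.presheaf.stalk y) :=
      IsScalarTower.of_algebraMap_smul fun _ _ => rfl
    have hL := Props.QStalk.isLocalizedModule_germLin L (U := ⊤) (x := y) trivial hA
    have hO : IsLocalization.AtPrime (X.presheaf.stalk y) (hA.primeIdealOf ⟨y, trivial⟩).asIdeal :=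
      hA.isLocalization_stalk ⟨y, trivial⟩
    have hgu : IsUnit (algebraMap Γ(X, ⊤) (X.presheaf.stalk y) (sig R g)) :=
      (X.mem_basicOpen (sig R g) y trivial).mp hy
    let e : L.presheaf.stalk y := Props.QStalk.germLin L (U := ⊤) (x := y) trivial (θ m)
    have hcomb : ∀ c, LFFrame.stalkComb L (fun _ : Fin 1 => res L le_top (θ m)) y hy c = c 0 • e := fun c => by
      simp only [LFFrame.stalkComb, Fintype.linearCombination_apply, Fin.sum_univ_one]
      exact congrArg (c 0 • ·) (L.presheaf.germ_res_apply _ y hy (θ m))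
    constructor
    · refine (injective_iff_map_eq_zero _).mpr fun c hc => ?_
      rw [hcomb] at hc
      obtain ⟨⟨a', v⟩, hav⟩ := IsLocalization.mk'_surjective (hA.primeIdealOf ⟨y, trivial⟩).asIdeal.primeCompl (c 0)
      obtain ⟨a, rfl⟩ := sig_bijective.2 a'
      simp only at hav
      have h0 : Props.QStalk.germLin L (U := ⊤) (x := y) trivial (θ (a • m)) = 0 := by
        rw [map_smul, smul_def, map_smul, ← algebraMap_smul (X.presheaf.stalk y) (sig R a),
          ← IsLocalization.mk'_spec' (X.presheaf.stalk y) (sig R a) v, hav, mul_smul, hc, smul_zero]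
      obtain ⟨w, hw⟩ := (IsLocalizedModule.eq_zero_iff (hA.primeIdealOf ⟨y, trivial⟩).asIdeal.primeCompl _).mp h0
      obtain ⟨w₀, hw₀⟩ := sig_bijective.2 (w : Γ(X, ⊤))
      have h1 : (w₀ * a) • m = 0 := by
        refine θ.injective ?_
        rw [map_zero, mul_smul, map_smul, smul_def, hw₀]
        exact hw
      have h2 := congrArg (fun z => algebraMap Γ(X, ⊤) (X.presheaf.stalk y) (sig R z)) (hm₂ _ h1)
      simp only [map_mul, map_zero, hw₀] at h2
      have h3 : algebraMap Γ(X, ⊤) (X.presheaf.stalk y) (sig R a) = 0 :=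
        (IsLocalization.map_units (X.presheaf.stalk y) w).mul_right_eq_zero.mp (hgu.mul_right_eq_zero.mp h2)
      funext i
      obtain rfl := Subsingleton.elim i 0
      rw [← hav, Pi.zero_apply, IsLocalization.mk'_eq_iff_eq_mul, zero_mul]
      exact h3
    · intro t
      obtain ⟨⟨q', v⟩, rfl⟩ := IsLocalizedModule.mk'_surjective (hA.primeIdealOf ⟨y, trivial⟩).asIdeal.primeCompl
        (Props.QStalk.germLin L (U := ⊤) (x := y) trivial) t
      obtain ⟨q, rfl⟩ := θ.surjective q'
      obtain ⟨a, ha⟩ := hm₁ q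
      obtain ⟨w, hw⟩ := hgu.mul (IsLocalization.map_units (X.presheaf.stalk y) v)
      refine ⟨fun _ => (↑w⁻¹ : X.presheaf.stalk y) * algebraMap Γ(X, ⊤) _ (sig R a), ?_⟩
      rw [hcomb, mul_smul, algebraMap_smul]
      have h0 : sig R a • θ m = sig R g • θ q :=
        (θ.map_smul a m).symm.trans ((congrArg θ ha.symm).trans (θ.map_smul g q))
      have h1 : sig R a • e = sig R g • Props.QStalk.germLin L (U := ⊤) (x := y) trivial (θ q) :=
        ((Props.QStalk.germLin L (U := ⊤) (x := y) trivial).map_smul _ _).symm.trans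
          ((congrArg _ h0).trans ((Props.QStalk.germLin L (U := ⊤) (x := y) trivial).map_smul _ _))
      rw [h1, ← IsLocalizedModule.mk'_cancel' (Props.QStalk.germLin L (U := ⊤) (x := y) trivial) (θ q) v,
        Submonoid.smul_def, smul_smul, ← algebraMap_smul (X.presheaf.stalk y) (_ * _), smul_smul, map_mul, ← hw,
        w.inv_mul, one_smul]
      rfl
  have hLinv : PicF.IsInvertible L := AmpleLib.isInvertible_of_exists_isGen hloc
  let v : (Fin (n + 1) → R) →ₗ[R] ProjUP.Γm L := θ.toLinearMap.comp F.mkQ
  have hvs : Function.Surjective v := θ.surjective.comp F.mkQ_surjective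
  have hgen : ProjUP.GeneratedBy L (v.toAddMonoidHom) := fun y => by
    have hspan : Submodule.span Γ(X, ⊤) (Set.range fun i => v (Pi.single i 1)) = ⊤ := by
      refine eq_top_iff.mpr fun t _ => ?_
      obtain ⟨c, rfl⟩ := hvs t
      rw [pi_eq_sum_univ' c, map_sum]
      refine Submodule.sum_mem _ fun i _ => ?_
      rw [map_smul, smul_def]
      exact Submodule.smul_mem _ _ (Submodule.subset_span ⟨i, rfl⟩)
    refine top_le_iff.mp ((Props.QRank.span_germ_eq_top (M := L) hA hspan (y := y) trivial).ge.trans (Submodule.span_mono ?_))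
    rintro _ ⟨i, rfl⟩
    exact ⟨Pi.single i 1, rfl⟩
  let ι := (Pi.basisFun R (Fin (n + 1))).constr R (MvPolynomial.X : Fin (n + 1) → MvPolynomial (Fin (n + 1)) R)
  have hι : ∀ c, ι c ∈ CohB1.polyGrading n R 1 := fun c => by
    simp only [ι, Module.Basis.constr_apply_fintype]
    exact Submodule.sum_mem _ fun i _ => Submodule.smul_mem _ _ (MvPolynomial.isHomogeneous_X R i)
  have hιe : ∀ i, ι (Pi.single i 1) = MvPolynomial.X i := fun i => by
    rw [show (Pi.single i (1 : R)) = Pi.basisFun R (Fin (n + 1)) i from (Pi.basisFun_apply R _ i).symm]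
    exact Module.Basis.constr_basis _ R _ i
  obtain ⟨r, hr', τ, hτ⟩ := Groth.Agent.S3591.result (CohB1.polyGrading n R) ι hι
    (SymmetricAlgebra.IsSymmetricAlgebra.mvPolynomial _ _) (X := X) (𝟙 _) L hLinv v.toAddMonoidHom
    (fun a c => map_smul v a c) hgen
  refine ⟨r, hr', ?_⟩
  have hco : ∀ i, τ.hom.app ⊤ (ProjUP.pullSec r (Twist.twist (CohB1.polyGrading n R) 1)
      (ProjUP.coord n R i)) = v (Pi.single i 1) := fun i => by
    refine Eq.trans ?_ (hτ (Pi.single i 1))
    congr 3
    exact congrArg (Twist.globalOf (CohB1.polyGrading n R)) (Subtype.ext (hιe i).symm)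
  suffices main : ∀ (r : Spec (CommRingCat.of R) ⟶ CohB1.ProjSpace n R) (β : ProjUP.Γm (LL r) →ₗ[R] ProjUP.Γm L),
      Function.Injective β → (∀ i, β (co r i) = v (Pi.single i 1)) → LinearMap.ker (coLin r) = F from
    main r
      { toFun := fun z => τ.hom.app ⊤ z
        map_add' := fun z w => map_add _ z w
        map_smul' := fun c z => Scheme.Modules.Hom.app_smul _ _ _ }
      (ConcreteCategory.bijective_of_isIso (τ.hom.app ⊤)).1 hco
  intro r β hβ hβc
  have hcomp : β.comp (coLin r) = v := by
    refine (Pi.basisFun R (Fin (n + 1))).ext fun i => ?_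
    rw [Pi.basisFun_apply, LinearMap.comp_apply]
    refine Eq.trans (congrArg β ?_) (hβc i)
    exact (Fintype.linearCombination_apply_single R (co r) i 1).trans (one_smul _ _)
  rw [← LinearMap.ker_comp_of_ker_eq_bot (coLin r) (LinearMap.ker_eq_bot.mpr hβ), hcomp]
  show LinearMap.ker (θ.toLinearMap.comp F.mkQ) = F
  rw [LinearEquiv.ker_comp, Submodule.ker_mkQ]

end Groth.Agent.ProjPointLib
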